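import Mathlib
import Cfsg.Agent.Lib.Helper4.Dihedral
import Cfsg.Agent.Lib.Helper4.ElemAb
import Cfsg.Agent.Lib.Helper14.QuatSylow
import Cfsg.Agent.S0218

/-!
# Involutions in groups with a generalized quaternion Sylow 2-subgroup
-/

set_option autoImplicit false
set_option linter.unusedSectionVars false
set_option linter.style.haveILetI false

namespace Cfsg.Agent.Helper4.BS

open Cfsg Cfsg.Agent.Helper4 Cfsg.Agent.Helper14

variable {G : Type*} [Group G] [Finite G]

/-- two commuting involutions coincide when a Sylow 2-subgroup is generalized quaternion -/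
theorem invol_eq_of_commute (S : Sylow 2 G) (m : ℕ) [NeZero m]
    (e : (S : Subgroup G) ≃* QuaternionGroup m) (u w : G) (hu : orderOf u = 2)
    (hw : orderOf w = 2) (huw : u * w = w * u) : u = w := by
  by_contra hne
  have hu2 : u * u = 1 := mul_self_of_orderOf_eq_two hu
  have hw2 : w * w = 1 := mul_self_of_orderOf_eq_two hw
  have hu1 : u ≠ 1 := by rintro rfl; simp at hu
  have hw1 : w ≠ 1 := by rintro rfl; simp at hw
  set V := fourSub u w hu2 hw2 huw with hV
  have hcard : Nat.card V = 4 := card_fourSub hu2 hw2 huw hu1 hw1 hne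
  have hVp : IsPGroup 2 V := IsPGroup.of_card (n := 2) (by rw [hcard]; norm_num)
  obtain ⟨x, -, hx⟩ := exists_conj_mem_sylow_of_le S ⊤ le_top V le_top hVp
  have huV : u ∈ V := mem_fourSub.mpr (Or.inr (Or.inl rfl))
  have hwV : w ∈ V := mem_fourSub.mpr (Or.inr (Or.inr (Or.inl rfl)))
  have h1 := hx u huV
  have h2 := hx w hwV
  have ho1 : orderOf (⟨x * u * x⁻¹, h1⟩ : (S : Subgroup G)) = 2 := by
    rw [← Subgroup.orderOf_coe]; simp only; rw [orderOf_conj', hu]
  have ho2 : orderOf (⟨x * w * x⁻¹, h2⟩ : (S : Subgroup G)) = 2 := by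
    rw [← Subgroup.orderOf_coe]; simp only; rw [orderOf_conj', hw]
  have e1 := (Cfsg.Agent.S0218.invol_iff m (e ⟨x * u * x⁻¹, h1⟩)).mp (by rw [MulEquiv.orderOf_eq]; exact ho1)
  have e2 := (Cfsg.Agent.S0218.invol_iff m (e ⟨x * w * x⁻¹, h2⟩)).mp (by rw [MulEquiv.orderOf_eq]; exact ho2)
  have := e.injective (e1.trans e2.symm)
  have h3 : x * u * x⁻¹ = x * w * x⁻¹ := congrArg Subtype.val this
  apply hne
  simpa using h3

/-- no product of two involutions has even order -/
theorem odd_orderOf_mul_invol (S : Sylow 2 G) (m : ℕ) [NeZero m]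
    (e : (S : Subgroup G) ≃* QuaternionGroup m) (u v : G) (hu : orderOf u = 2)
    (hv : orderOf v = 2) : ¬ Even (orderOf (u * v)) := by
  intro hev
  obtain ⟨t, ht⟩ := hev
  have hpos : 0 < orderOf (u * v) := orderOf_pos _
  have ht0 : 0 < t := by omega
  set g := u * v with hg
  set w := g ^ t with hwdef
  have hw2 : w * w = 1 := by
    rw [hwdef, ← pow_add, ← ht, pow_orderOf_eq_one]
  have hw1 : w ≠ 1 := by
    intro h
    have := orderOf_dvd_of_pow_eq_one h
    have := Nat.le_of_dvd ht0 this
    omega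
  have hwo : orderOf w = 2 := by
    apply orderOf_eq_prime
    · rw [pow_two]; exact hw2
    · exact hw1
  have hcomm : u * w = w * u := by
    have h1 := dih_conj_zpow hu hv (t : ℤ)
    rw [zpow_natCast] at h1
    have h2 : (u * v) ^ (-(t : ℤ)) = w := by
      rw [zpow_neg, zpow_natCast]
      have : w⁻¹ = w := by
        exact inv_eq_of_mul_eq_one_left hw2
      rw [← hg, ← hwdef, this]
    rw [h2] at h1
    have : u * w = (u * w * u⁻¹) * u := by group
    rw [this, ← hg] at *
    rw [hwdef]
    rw [h1]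
  have huw : u = w := invol_eq_of_commute S m e u w hu hwo hcomm
  -- then `u` commutes with `g`, so with `v`
  have hug : u * g = g * u := by
    rw [huw, hwdef]
    exact (Commute.pow_self g t).eq
  have hu2 : u * u = 1 := mul_self_of_orderOf_eq_two hu
  have hv2 : v * v = 1 := mul_self_of_orderOf_eq_two hv
  have huv : u * v = v * u := by
    have h1 : u * (u * v) = (u * v) * u := hug
    have h2 : u * (u * v) = v := by rw [← mul_assoc, hu2, one_mul]
    rw [h2] at h1
    -- v = u v u
    calc u * v = u * (u * v * u) := by rw [← h1]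
      _ = v * u := by rw [← mul_assoc, ← mul_assoc, hu2, one_mul]
  have hg2 : g ^ 2 = 1 := by
    rw [pow_two, hg]
    calc u * v * (u * v) = u * (v * u) * v := by group
      _ = u * (u * v) * v := by rw [huv]
      _ = 1 := by rw [← mul_assoc, hu2, one_mul, hv2]
  have hdvd : orderOf g ∣ 2 := orderOf_dvd_of_pow_eq_one hg2
  have hle : orderOf g ≤ 2 := Nat.le_of_dvd (by norm_num) hdvd
  have ht1 : t = 1 := by omega
  have hwg : w = g := by rw [hwdef, ht1, pow_one]
  have : v = 1 := by
    have : u = u * v := by rw [← hg, ← hwg]; exact huw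
    have h3 : u * 1 = u * v := by rw [mul_one]; exact this
    exact (mul_left_cancel h3).symm
  rw [this] at hv
  simp at hv

/-- existence of an involution -/
theorem exists_invol (S : Sylow 2 G) (n : ℕ)
    (e : (S : Subgroup G) ≃* QuaternionGroup (2 ^ (n + 2))) : ∃ z : G, orderOf z = 2 := by
  have : NeZero (2 ^ (n + 2)) := ⟨by positivity⟩
  refine ⟨((e.symm (QuaternionGroup.a ((2 ^ (n + 2) : ℕ) : ZMod (2 * 2 ^ (n + 2)))) :
    (S : Subgroup G)) : G), ?_⟩
  rw [Subgroup.orderOf_coe, MulEquiv.orderOf_eq]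
  exact (Cfsg.Agent.S0218.invol_iff (2 ^ (n + 2)) _).mpr rfl

end Cfsg.Agent.Helper4.BS
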