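import Mathlib
import Cfsg.Prelude.Def_Characters
import Cfsg.Agent.Lib.Helper81.CharInd
import Cfsg.Agent.Lib.Helper82.GenChar
import Cfsg.Agent.Lib.Helper79.Linear
import Cfsg.Agent.Lib.Helper25.TIInd

/-!
# The exceptional generalized character `ind_C^G (1 - λ)` (Brauer–Suzuki set-up)

`C ≤ G`, `λ : C →* ℂˣ`, `b` normalizes `C`, inverts `λ`, and the support of `1 - λ` is a TI-set with
normalizer `C ∪ C b⁻¹`.
-/

set_option autoImplicit false
set_option linter.unusedSectionVars false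
set_option linter.style.haveILetI false

namespace Cfsg.Agent.Helper4.BS

open Cfsg Cfsg.Agent.Helper81 Cfsg.Agent.Helper82 Cfsg.Agent.Helper79 Cfsg.Agent.Helper25
open scoped ComplexConjugate Classical

universe u

variable {G : Type u} [Group G] [Fintype G]

/-- the class function `1 - λ` on `C` -/
noncomputable def thetaC (C : Subgroup G) (lam : C →* ℂˣ) : C → ℂ := fun c => 1 - ((lam c : ℂˣ) : ℂ)

/-- the induced generalized character -/
noncomputable def Theta (C : Subgroup G) (lam : C →* ℂˣ) : G → ℂ := indFun C (thetaC C lam)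

theorem thetaC_eq (C : Subgroup G) (lam : C →* ℂˣ) :
    thetaC C lam = ((trivChar C : IrrCharacter C) : C → ℂ) - ((Helper79.linChar lam : IrrCharacter C) : C → ℂ) := by
  funext c
  simp [thetaC, trivChar_apply, Helper79.linChar_apply]

theorem isGeneralizedCharacter_Theta (C : Subgroup G) (lam : C →* ℂˣ) :
    IsGeneralizedCharacter G (Theta C lam) := by
  unfold Theta
  rw [thetaC_eq, indFun_sub]
  apply isGeneralizedCharacter_sub
  · exact isGeneralizedCharacter_of_isCharacter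
      (isCharacter_indFun C (IsIrrCharacter.isCharacter (trivChar C).2))
  · exact isGeneralizedCharacter_of_isCharacter
      (isCharacter_indFun C (IsIrrCharacter.isCharacter (Helper79.linChar lam).2))

theorem Theta_one (C : Subgroup G) (lam : C →* ℂˣ) : Theta C lam 1 = 0 := by
  unfold Theta
  apply indFun_one_eq_zero
  simp [thetaC]

/-- vanishing of `Theta` off the conjugates of the support -/
theorem Theta_eq_zero (C : Subgroup G) (lam : C →* ℂˣ) (g : G)
    (h : ∀ x : G, ∀ hx : x⁻¹ * g * x ∈ C, lam ⟨x⁻¹ * g * x, hx⟩ = 1) : Theta C lam g = 0 := by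
  unfold Theta
  rw [indFun_apply]
  have : ∀ x : G, extendByZero C (thetaC C lam) (x⁻¹ * g * x) = 0 := by
    intro x
    by_cases hx : x⁻¹ * g * x ∈ C
    · rw [extendByZero_apply_mem C _ hx]
      simp [thetaC, h x hx]
    · exact extendByZero_apply_not_mem C _ hx
  simp [this]

theorem sum_lin_eq_zero {C : Type*} [Group C] [Fintype C] (mu : C →* ℂˣ) (h : mu ≠ 1) :
    ∑ c : C, ((mu c : ℂˣ) : ℂ) = 0 := by
  have h1 : (Units.coeHom ℂ).comp mu ≠ 1 := by
    intro h2
    apply h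
    ext c
    have := DFunLike.congr_fun h2 c
    simpa using this
  have := sum_hom_units_eq_zero ((Units.coeHom ℂ).comp mu) h1
  simpa using this

theorem norm_lam {C : Type*} [Group C] [Finite C] (mu : C →* ℂˣ) (c : C) :
    conj ((mu c : ℂˣ) : ℂ) = (((mu c)⁻¹ : ℂˣ) : ℂ) := by
  have hfin : IsOfFinOrder (mu c) := MonoidHom.isOfFinOrder mu (isOfFinOrder_of_finite c)
  obtain ⟨n, hn, hpow⟩ := hfin.exists_pow_eq_one
  have h1 : ‖((mu c : ℂˣ) : ℂ)‖ = 1 := by
    have h2 : ((mu c : ℂˣ) : ℂ) ^ n = 1 := by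
      have := congrArg (fun u : ℂˣ => (u : ℂ)) hpow
      simpa using this
    exact Complex.norm_eq_one_of_pow_eq_one h2 hn.ne'
  rw [Units.val_inv_eq_inv_val, Complex.inv_def, Complex.normSq_eq_norm_sq, h1]
  simp


theorem sum_ite_mem (C : Subgroup G) (A : ℂ) :
    ∑ x : G, (if x ∈ C then A else 0) = (Nat.card C : ℂ) * A := by
  classical
  rw [← Finset.sum_filter, Finset.sum_const, nsmul_eq_mul]
  congr 2
  rw [Nat.card_eq_fintype_card, Fintype.card_subtype]

theorem sum_ite_mul_mem (C : Subgroup G) (b : G) (A : ℂ) :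
    ∑ x : G, (if x * b ∈ C then A else 0) = (Nat.card C : ℂ) * A := by
  rw [← sum_ite_mem C A]
  exact Equiv.sum_comp (Equiv.mulRight b) (fun y => if y ∈ C then A else 0)

section main

variable (C : Subgroup G) (lam : C →* ℂˣ) (b : G)
  (hbC : ∀ c ∈ C, b * c * b⁻¹ ∈ C)
  (hb : b ∉ C)
  (hinv : ∀ (c : G) (hc : c ∈ C), lam ⟨b * c * b⁻¹, hbC c hc⟩ = (lam ⟨c, hc⟩)⁻¹)
  (hTI : ∀ (c : G) (hc : c ∈ C), lam ⟨c, hc⟩ ≠ 1 → ∀ g : G, g * c * g⁻¹ ∈ C → g ∈ C ∨ b⁻¹ * g ∈ C)

theorem lam_conj (c x : G) (hc : c ∈ C) (hx : x ∈ C) (h : x⁻¹ * c * x ∈ C) :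
    lam ⟨x⁻¹ * c * x, h⟩ = lam ⟨c, hc⟩ := by
  have : (⟨x⁻¹ * c * x, h⟩ : C) = (⟨x, hx⟩ : C)⁻¹ * ⟨c, hc⟩ * ⟨x, hx⟩ := by
    apply Subtype.ext; simp
  rw [this, map_mul, map_mul, map_inv]
  rw [mul_comm, ← mul_assoc, mul_inv_cancel, one_mul]

include hb hinv hTI in
theorem ext_term (c : G) (hc : c ∈ C) (hl : lam ⟨c, hc⟩ ≠ 1) (x : G) :
    extendByZero C (thetaC C lam) (x⁻¹ * c * x) =
      (if x ∈ C then 1 - ((lam ⟨c, hc⟩ : ℂˣ) : ℂ) else 0) +
        (if x * b ∈ C then 1 - (((lam ⟨c, hc⟩)⁻¹ : ℂˣ) : ℂ) else 0) := by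
  by_cases hx : x ∈ C
  · have hxb : x * b ∉ C := by
      intro h
      apply hb
      have : b = x⁻¹ * (x * b) := by group
      rw [this]
      exact C.mul_mem (C.inv_mem hx) h
    have hmem : x⁻¹ * c * x ∈ C := C.mul_mem (C.mul_mem (C.inv_mem hx) hc) hx
    rw [if_pos hx, if_neg hxb, add_zero, extendByZero_apply_mem C _ hmem]
    simp only [thetaC]
    rw [lam_conj C lam c x hc hx hmem]
  · by_cases hxb : x * b ∈ C
    · rw [if_neg hx, if_pos hxb, zero_add]
      set c' : G := (x * b)⁻¹ * c * (x * b) with hc'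
      have hc'C : c' ∈ C := C.mul_mem (C.mul_mem (C.inv_mem hxb) hc) hxb
      have heq : x⁻¹ * c * x = b * c' * b⁻¹ := by rw [hc']; group
      have hmem : x⁻¹ * c * x ∈ C := by rw [heq]; exact hbC c' hc'C
      rw [extendByZero_apply_mem C _ hmem]
      simp only [thetaC]
      have h1 : lam ⟨x⁻¹ * c * x, hmem⟩ = (lam ⟨c, hc⟩)⁻¹ := by
        have : (⟨x⁻¹ * c * x, hmem⟩ : C) = ⟨b * c' * b⁻¹, hbC c' hc'C⟩ := Subtype.ext heq
        rw [this, hinv c' hc'C, lam_conj C lam c (x * b) hc hxb hc'C]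
      rw [h1]
    · rw [if_neg hx, if_neg hxb, add_zero]
      apply extendByZero_apply_not_mem
      intro hmem
      have hmem' : x⁻¹ * c * (x⁻¹)⁻¹ ∈ C := by simpa using hmem
      rcases hTI c hc hl x⁻¹ hmem' with h | h
      · exact hx (by simpa using C.inv_mem h)
      · apply hxb
        have : x * b = (b⁻¹ * x⁻¹)⁻¹ := by group
        rw [this]
        exact C.inv_mem h

include hb hinv hTI in
theorem Theta_apply_of_ne (c : G) (hc : c ∈ C) (hl : lam ⟨c, hc⟩ ≠ 1) :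
    Theta C lam c = 2 - ((lam ⟨c, hc⟩ : ℂˣ) : ℂ) - (((lam ⟨c, hc⟩)⁻¹ : ℂˣ) : ℂ) := by
  unfold Theta
  rw [indFun_apply]
  simp_rw [ext_term C lam b hbC hb hinv hTI c hc hl]
  rw [Finset.sum_add_distrib, sum_ite_mem, sum_ite_mul_mem]
  have hC0 : (Nat.card C : ℂ) ≠ 0 := by
    have : 0 < Nat.card C := Nat.card_pos
    exact_mod_cast this.ne'
  field_simp
  ring

end main

section norms

variable (C : Subgroup G) [Fintype C] (lam : C →* ℂˣ) (b : G)
  (hbC : ∀ c ∈ C, b * c * b⁻¹ ∈ C)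
  (hb : b ∉ C)
  (hinv : ∀ (c : G) (hc : c ∈ C), lam ⟨b * c * b⁻¹, hbC c hc⟩ = (lam ⟨c, hc⟩)⁻¹)
  (hTI : ∀ (c : G) (hc : c ∈ C), lam ⟨c, hc⟩ ≠ 1 → ∀ g : G, g * c * g⁻¹ ∈ C → g ∈ C ∨ b⁻¹ * g ∈ C)
  (hsq : ∃ c : C, lam c ^ 2 ≠ 1)

theorem card_ne_zero' : (Nat.card C : ℂ) ≠ 0 := by
  have : 0 < Nat.card C := Nat.card_pos
  exact_mod_cast this.ne'

include hsq in
theorem lam_ne_one : lam ≠ 1 := by
  rintro rfl
  obtain ⟨c, hc⟩ := hsq
  exact hc (by simp)

include hsq in
theorem lam_inv_ne_one : lam⁻¹ ≠ 1 := by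
  intro h
  apply lam_ne_one C lam hsq
  ext c
  have := DFunLike.congr_fun h c
  simp only [MonoidHom.inv_apply, MonoidHom.one_apply, inv_eq_one] at this
  rw [this]; rfl

include hsq in
theorem lam_sq_ne_one : lam ^ 2 ≠ 1 := by
  intro h
  obtain ⟨c, hc⟩ := hsq
  apply hc
  have := DFunLike.congr_fun h c
  simpa using this

include hsq in
theorem classInner_Theta_one : classInner (Theta C lam) (fun _ => (1 : ℂ)) = 1 := by
  unfold Theta
  rw [frobenius_reciprocity C (thetaC C lam) (χ := fun _ => (1 : ℂ)) (fun _ _ => rfl)]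
  unfold classInner
  simp only [thetaC, map_one, mul_one]
  rw [Finset.sum_sub_distrib, sum_lin_eq_zero lam (lam_ne_one C lam hsq)]
  simp only [Finset.sum_const, Finset.card_univ, nsmul_eq_mul, mul_one, sub_zero]
  rw [← Nat.card_eq_fintype_card]
  exact inv_mul_cancel₀ (card_ne_zero' C)

include hb hinv hTI hsq in
theorem classInner_Theta_Theta : classInner (Theta C lam) (Theta C lam) = 3 := by
  have hcf : IsClassFunction G (Theta C lam) := indFun_isClassFunction C _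
  have h1 : classInner (Theta C lam) (Theta C lam) =
      classInner (thetaC C lam) (fun h : C => Theta C lam h) := by
    exact frobenius_reciprocity C (thetaC C lam) hcf
  rw [h1]
  unfold classInner
  have hterm : ∀ c : C, thetaC C lam c * conj (Theta C lam (c : G)) =
      3 - 3 * ((lam c : ℂˣ) : ℂ) - (((lam⁻¹) c : ℂˣ) : ℂ) + (((lam ^ 2) c : ℂˣ) : ℂ) := by
    intro c
    have hunit : ((lam c : ℂˣ) : ℂ) * (((lam c)⁻¹ : ℂˣ) : ℂ) = 1 := by
      rw [← Units.val_mul, mul_inv_cancel, Units.val_one]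
    by_cases hl : lam c = 1
    · simp [thetaC, hl]
    · have hv := Theta_apply_of_ne C lam b hbC hb hinv hTI (c : G) c.2 hl
      rw [hv]
      simp only [thetaC, map_sub, map_ofNat, MonoidHom.inv_apply, MonoidHom.pow_apply,
        Units.val_pow_eq_pow_val]
      rw [norm_lam lam c]
      have h2 : conj (((lam c)⁻¹ : ℂˣ) : ℂ) = ((lam c : ℂˣ) : ℂ) := by
        have := norm_lam lam c
        rw [← this, Complex.conj_conj]
      rw [h2]
      have : (⟨(c : G), c.2⟩ : C) = c := rfl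
      linear_combination hunit
  simp_rw [hterm]
  rw [Finset.sum_add_distrib, Finset.sum_sub_distrib, Finset.sum_sub_distrib, ← Finset.mul_sum,
    sum_lin_eq_zero lam (lam_ne_one C lam hsq), sum_lin_eq_zero _ (lam_inv_ne_one C lam hsq),
    sum_lin_eq_zero _ (lam_sq_ne_one C lam hsq)]
  simp only [Finset.sum_const, Finset.card_univ, nsmul_eq_mul, mul_zero, sub_zero, add_zero]
  rw [← Nat.card_eq_fintype_card]
  have := card_ne_zero' C
  field_simp

end norms

/-- A generalized character of norm three, containing the trivial character once and vanishing at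
`1`, is `1 + χ₂ - χ₁`. -/
theorem exists_pair {Θ : G → ℂ} (hΘ : IsGeneralizedCharacter G Θ) (h3 : classInner Θ Θ = 3)
    (h1 : classInner Θ (fun _ => (1 : ℂ)) = 1) (h0 : Θ 1 = 0) :
    ∃ χ₁ χ₂ : G → ℂ, IsIrrCharacter G χ₁ ∧ IsIrrCharacter G χ₂ ∧ χ₁ ≠ (fun _ => 1) ∧
      χ₂ ≠ (fun _ => 1) ∧ χ₁ ≠ χ₂ ∧ χ₁ 1 = χ₂ 1 + 1 ∧ Θ = (fun _ => (1 : ℂ)) + χ₂ - χ₁ := by
  classical
  haveI : Fintype (IrrCharacter G) := @Fintype.ofFinite _ Helper81.irr_finite
  obtain ⟨z, rfl⟩ := genChar_int_decomp hΘ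
  set t : IrrCharacter G := trivChar G with ht
  have htf : ((t : IrrCharacter G) : G → ℂ) = fun _ => (1 : ℂ) := by
    funext g; rw [ht, trivChar_apply]
  rw [classInner_int_comb] at h3
  rw [← htf, classInner_nat_decomp (fun χ' => (z χ' : ℂ)) t] at h1
  have hzt : z t = 1 := by exact_mod_cast h1
  have h3' : ∑ χ : IrrCharacter G, z χ ^ 2 = 3 := by
    have : ((∑ χ : IrrCharacter G, z χ * z χ : ℤ) : ℂ) = ((3 : ℤ) : ℂ) := by simpa using h3
    have h4 := Int.cast_injective this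
    rw [← h4]
    exact Finset.sum_congr rfl (fun χ _ => sq (z χ))
  have h2' : ∑ χ ∈ Finset.univ.erase t, z χ ^ 2 = 2 := by
    have := Finset.add_sum_erase Finset.univ (fun χ => z χ ^ 2) (Finset.mem_univ t)
    rw [hzt] at this
    omega
  obtain ⟨a, ha, b, hb, hab, hza, hzb, hz0⟩ := int_sq_sum_two z (Finset.univ.erase t) h2'
  have hat : a ≠ t := (Finset.mem_erase.1 ha).1
  have hbt : b ≠ t := (Finset.mem_erase.1 hb).1
  have hsum : ∑ χ, (z χ : ℂ) • (χ : G → ℂ) =
      (t : G → ℂ) + (z a : ℂ) • (a : G → ℂ) + (z b : ℂ) • (b : G → ℂ) := by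
    rw [← Finset.add_sum_erase _ _ (Finset.mem_univ t), hzt, Int.cast_one, one_smul, add_assoc]
    congr 1
    rw [← Finset.add_sum_erase _ _ ha]
    congr 1
    rw [Finset.sum_eq_single b]
    · intro c hc hcb
      have hc1 := (Finset.mem_erase.1 hc).1
      have hc2 := (Finset.mem_erase.1 hc).2
      rw [hz0 c hc2 hc1 hcb]; simp
    · intro h; exact absurd (Finset.mem_erase.2 ⟨hab.symm, hb⟩) h
  rw [hsum] at h0 ⊢
  obtain ⟨na, hna, ha1⟩ := irr_degree_pos a.2
  obtain ⟨nb, hnb, hb1⟩ := irr_degree_pos b.2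
  simp only [Pi.add_apply, Pi.smul_apply, smul_eq_mul, ha1, hb1, htf] at h0
  have h0' : 1 + z a * (na : ℤ) + z b * (nb : ℤ) = 0 := by
    have : ((1 + z a * (na : ℤ) + z b * (nb : ℤ) : ℤ) : ℂ) = ((0 : ℤ) : ℂ) := by
      push_cast; exact h0
    exact Int.cast_injective this
  have hna' : (0 : ℤ) < na := by exact_mod_cast hna
  have hnb' : (0 : ℤ) < nb := by exact_mod_cast hnb
  have hne : (a : G → ℂ) ≠ (b : G → ℂ) := fun h => hab (Subtype.ext h)
  have hat' : (a : G → ℂ) ≠ fun _ => (1 : ℂ) := fun h => hat (Subtype.ext (h.trans htf.symm))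
  have hbt' : (b : G → ℂ) ≠ fun _ => (1 : ℂ) := fun h => hbt (Subtype.ext (h.trans htf.symm))
  rcases hza with ha' | ha' <;> rcases hzb with hb' | hb'
  · rw [ha', hb'] at h0'; omega
  · refine ⟨b, a, b.2, a.2, hbt', hat', hne.symm, ?_, ?_⟩
    · rw [ha', hb'] at h0'
      rw [ha1, hb1]
      have : (nb : ℤ) = na + 1 := by omega
      exact_mod_cast this
    · rw [ha', hb', htf]; ext g; simp [sub_eq_add_neg]
  · refine ⟨a, b, a.2, b.2, hat', hbt', hne, ?_, ?_⟩
    · rw [ha', hb'] at h0'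
      rw [ha1, hb1]
      have : (na : ℤ) = nb + 1 := by omega
      exact_mod_cast this
    · rw [ha', hb', htf]; ext g; simp [sub_eq_add_neg]; ring
  · rw [ha', hb'] at h0'; omega

end Cfsg.Agent.Helper4.BS
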