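import Mathlib
import Cfsg.Agent.S0842
import Cfsg.Agent.S0843
import Cfsg.Agent.Lib.Helper4.BS.Theta

/-!
# Brauer–Suzuki for generalized quaternion Sylow 2-subgroups of order at least 16: group theory
-/

set_option autoImplicit false
set_option linter.unusedSectionVars false
set_option linter.style.haveILetI false

namespace Cfsg.Agent.Helper4.BS

open Cfsg Cfsg.Agent.Helper14 QuaternionGroup
open scoped commutatorElement

/-- the subgroup of even rotations -/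
def rot2 (k : ℕ) : Subgroup (QuaternionGroup k) where
  carrier := Set.range fun i : ZMod (2 * k) => (a (2 * i) : QuaternionGroup k)
  mul_mem' := by
    rintro _ _ ⟨i, rfl⟩ ⟨j, rfl⟩
    exact ⟨i + j, by simp [mul_add]⟩
  one_mem' := ⟨0, by simp⟩
  inv_mem' := by
    rintro _ ⟨i, rfl⟩
    exact ⟨-i, by simp [a_inv']⟩

theorem commutator_le_rot2 (k : ℕ) : commutator (QuaternionGroup k) ≤ rot2 k := by
  have h2k : (2 * k : ZMod (2 * k)) = 0 := by norm_cast; simp
  rw [commutator_def, Subgroup.commutator_le]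
  rintro (i | i) - (j | j) -
  · refine ⟨0, ?_⟩
    simp only [commutatorElement_def, a_inv', a_mul_a]
    congr 1; ring
  · refine ⟨i, ?_⟩
    simp only [commutatorElement_def, a_inv', xa_inv', a_mul_xa, xa_mul_a, xa_mul_xa]
    congr 1; linear_combination -h2k
  · refine ⟨-j, ?_⟩
    simp only [commutatorElement_def, a_inv', xa_inv', a_mul_xa, xa_mul_a, xa_mul_xa]
    congr 1; linear_combination -h2k
  · refine ⟨j - i, ?_⟩
    simp only [commutatorElement_def, xa_inv', xa_mul_xa, a_mul_a]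
    congr 1; linear_combination -h2k


section SLevel

variable {G : Type*} [Group G] [Finite G] (S : Sylow 2 G) (n : ℕ)
  (e : (S : Subgroup G) ≃* QuaternionGroup (2 ^ (n + 2)))

local notation "DD" => (⁅(S : Subgroup G), (S : Subgroup G)⁆ : Subgroup G)
local notation "CC" => Subgroup.centralizer ((⁅(S : Subgroup G), (S : Subgroup G)⁆ : Subgroup G) : Set G)
local notation "NN" => Subgroup.normalizer ((⁅(S : Subgroup G), (S : Subgroup G)⁆ : Subgroup G) : Set G)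

/-- the generator of the cyclic maximal subgroup -/
noncomputable def a1 : G := ((e.symm (a 1) : (S : Subgroup G)) : G)

/-- a noncentral element of order four outside the cyclic maximal subgroup -/
noncomputable def b0 : G := ((e.symm (xa 0) : (S : Subgroup G)) : G)

theorem a1_mem_S : a1 S n e ∈ (S : Subgroup G) := (e.symm (a 1)).2

theorem b0_mem_S : b0 S n e ∈ (S : Subgroup G) := (e.symm (xa 0)).2

theorem a1_mem_C : a1 S n e ∈ CC := by
  unfold a1
  rw [Cfsg.Agent.S0842.coe_mem_C_iff S n e]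
  simp [a_mem_rot]

theorem b0_not_mem_C : b0 S n e ∉ CC := by
  unfold b0
  rw [Cfsg.Agent.S0842.coe_mem_C_iff S n e]
  simp [xa_not_mem_rot]

theorem b0_mem_N : b0 S n e ∈ NN := le_normalizer_commutator _ (b0_mem_S S n e)

theorem b0_conj_a1 : b0 S n e * a1 S n e * (b0 S n e)⁻¹ = (a1 S n e)⁻¹ := by
  unfold a1 b0
  have h2k : (2 * (2 ^ (n + 2) : ℕ) : ZMod (2 * 2 ^ (n + 2))) = 0 := by norm_cast; simp
  have h : (xa 0 : QuaternionGroup (2 ^ (n + 2))) * a 1 * (xa 0)⁻¹ = (a 1)⁻¹ := by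
    simp only [a_inv', xa_inv', xa_mul_a, xa_mul_xa]
    congr 1
    push_cast at h2k ⊢
    linear_combination h2k
  have := congrArg (fun x => ((e.symm x : (S : Subgroup G)) : G)) h
  simp only [map_mul, map_inv, Subgroup.coe_mul, Subgroup.coe_inv] at this
  exact this

theorem orderOf_a1 : orderOf (a1 S n e) = 2 ^ (n + 3) := by
  have : NeZero (2 ^ (n + 2)) := ⟨by positivity⟩
  unfold a1
  rw [Subgroup.orderOf_coe, MulEquiv.orderOf_eq, orderOf_a_one]
  ring

theorem rotS_le_zpowers : rotS (S : Subgroup G) e ≤ Subgroup.zpowers (a1 S n e) := by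
  have : NeZero (2 ^ (n + 2)) := ⟨by positivity⟩
  intro x hx
  obtain ⟨s, hs, rfl⟩ := (mem_rotS_iff _ e x).mp hx
  have h1 := rot_le_zpowers hs
  obtain ⟨j, hj⟩ := Subgroup.mem_zpowers_iff.mp h1
  rw [Subgroup.mem_zpowers_iff]
  refine ⟨j, ?_⟩
  unfold a1
  have : s = (e.symm (a 1)) ^ j := by
    apply e.injective
    rw [map_zpow, MulEquiv.apply_symm_apply, hj]
  rw [this]
  simp

theorem DD_le_zpowers_sq : DD ≤ Subgroup.zpowers (a1 S n e ^ 2) := by
  have : NeZero (2 ^ (n + 2)) := ⟨by positivity⟩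
  intro d hd
  obtain ⟨s, hs, rfl⟩ := (mem_commutator_iff _ e d).mp hd
  obtain ⟨i, hi⟩ := commutator_le_rot2 _ hs
  rw [Subgroup.mem_zpowers_iff]
  refine ⟨(i.val : ℤ), ?_⟩
  unfold a1
  have h1 : (a (2 * i) : QuaternionGroup (2 ^ (n + 2))) = (a 1 ^ 2) ^ (i.val) := by
    rw [← pow_mul, a_one_pow]
    congr 1
    push_cast
    rw [ZMod.natCast_zmod_val]
  have : s = ((e.symm (a 1)) ^ 2) ^ (i.val) := by
    apply e.injective
    rw [map_pow, map_pow, MulEquiv.apply_symm_apply, ← h1]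
    exact hi.symm
  rw [this, zpow_natCast]
  simp

include e in
theorem card_DD_dvd : Nat.card DD ∣ 2 ^ (n + 2) := by
  have h1 := Subgroup.card_dvd_of_le (DD_le_zpowers_sq S n e)
  rw [Nat.card_zpowers, orderOf_pow, orderOf_a1] at h1
  have : 2 ^ (n + 3) / Nat.gcd (2 ^ (n + 3)) 2 = 2 ^ (n + 2) := by
    have hg : Nat.gcd (2 ^ (n + 3)) 2 = 2 := by
      apply Nat.gcd_eq_right
      exact dvd_pow_self 2 (by omega)
    rw [hg, pow_succ]
    simp
  rwa [this] at h1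


/-- the unit `i` of `ℂ` -/
noncomputable def Iu : ℂˣ := Units.mk0 Complex.I Complex.I_ne_zero

theorem Iu_sq : ((Iu ^ 2 : ℂˣ) : ℂ) = -1 := by
  simp [Iu]

theorem orderOf_Iu : orderOf Iu = 4 := by
  have h := orderOf_eq_prime_pow (x := Iu) (p := 2) (n := 1) ?_ ?_
  · simpa using h
  · intro h
    have h1 := congrArg (fun u : ℂˣ => (u : ℂ)) h
    simp only [pow_one] at h1
    rw [Iu_sq] at h1
    norm_num at h1
  · apply Units.ext
    simp [Iu, pow_succ, mul_assoc]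

include e in
theorem exists_lam : ∃ (K : Subgroup G) (lam : CC →* ℂˣ),
    Odd (Nat.card K) ∧ K ≤ CC ∧ NN ≤ Subgroup.normalizer (K : Set G) ∧
    (∀ (k : G) (_ : k ∈ K) (hkC : k ∈ CC), lam ⟨k, hkC⟩ = 1) ∧
    lam ⟨a1 S n e, a1_mem_C S n e⟩ = Iu ∧
    (∀ c ∈ CC, ∃ k ∈ K, ∃ j : ℤ, c = k * a1 S n e ^ j) ∧
    (∀ (c k : G) (j : ℤ), k ∈ K → c = k * a1 S n e ^ j →
      ((2 ^ (n + 3) : ℕ) : ℤ) ∣ j * (orderOf c : ℤ)) ∧
    ((CC).subgroupOf NN).index = 2 := by
  obtain ⟨K, hKodd, hKC, hNK, -, hKA, hidx⟩ := Cfsg.Agent.S0842.result S n e DD rfl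
  have hCN : CC ≤ NN := centralizer_le_normalizer' _
  haveI hK'n : (K.subgroupOf CC).Normal :=
    (Subgroup.normal_subgroupOf_iff_le_normalizer hKC).mpr (hCN.trans hNK)
  set K' : Subgroup CC := K.subgroupOf CC with hK'
  set α : CC := ⟨a1 S n e, a1_mem_C S n e⟩ with hα
  -- decomposition inside `CC`
  have hdec : ∀ c : CC, ∃ k : CC, k ∈ K' ∧ ∃ j : ℤ, c = k * α ^ j := by
    intro c
    have hsup : K' ⊔ ((S : Subgroup G) ⊓ CC).subgroupOf CC = ⊤ := by
      rw [hK', ← Subgroup.subgroupOf_sup hKC inf_le_right, hKA, Subgroup.subgroupOf_self]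
    have hc : c ∈ (↑(K' ⊔ ((S : Subgroup G) ⊓ CC).subgroupOf CC) : Set CC) := by
      rw [hsup]; trivial
    rw [Subgroup.normal_mul] at hc
    obtain ⟨k, hk, s, hs, rfl⟩ := Set.mem_mul.mp hc
    refine ⟨k, hk, ?_⟩
    have hs' : (s : G) ∈ (S : Subgroup G) ⊓ CC := by
      simpa [Subgroup.mem_subgroupOf] using hs
    rw [Cfsg.Agent.S0842.inf_eq_rotS S n e] at hs'
    obtain ⟨j, hj⟩ := Subgroup.mem_zpowers_iff.mp (rotS_le_zpowers S n e hs')
    refine ⟨j, ?_⟩
    congr 1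
    apply Subtype.ext
    rw [Subgroup.coe_zpow]
    exact hj.symm
  set π : CC →* CC ⧸ K' := QuotientGroup.mk' K' with hπ
  have hπ1 : ∀ x : CC, π x = 1 ↔ x ∈ K' := fun x => QuotientGroup.eq_one_iff x
  have hgen : ∀ q : CC ⧸ K', q ∈ Subgroup.zpowers (π α) := by
    intro q
    obtain ⟨c, rfl⟩ := QuotientGroup.mk'_surjective K' q
    obtain ⟨k, hk, j, rfl⟩ := hdec c
    rw [Subgroup.mem_zpowers_iff]
    refine ⟨j, ?_⟩
    rw [← hπ, map_mul, (hπ1 k).mpr hk, one_mul, map_zpow]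
  -- odd-order 2-elements are trivial
  have hKtriv : ∀ m : ℤ, a1 S n e ^ m ∈ K → a1 S n e ^ m = 1 := by
    intro m hm
    have h1 : orderOf (a1 S n e ^ m) ∣ Nat.card K := Subgroup.orderOf_dvd_natCard K hm
    have h2 : orderOf (a1 S n e ^ m) ∣ 2 ^ (n + 3) := by
      rw [← orderOf_a1 S n e]
      exact orderOf_dvd_of_pow_eq_one (by rw [← zpow_natCast, ← zpow_mul, mul_comm, zpow_mul,
        zpow_natCast, pow_orderOf_eq_one, one_zpow])
    have hcop : Nat.Coprime (2 ^ (n + 3)) (Nat.card K) :=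
      Nat.Coprime.pow_left _ (Nat.coprime_two_left.mpr hKodd)
    exact orderOf_eq_one_iff.mp (Nat.eq_one_of_dvd_coprimes hcop h2 h1)
  have hαpow : ∀ m : ℤ, (π α) ^ m = 1 → a1 S n e ^ m = 1 := by
    intro m hm
    rw [← map_zpow, hπ1, hK', Subgroup.mem_subgroupOf, Subgroup.coe_zpow] at hm
    exact hKtriv m hm
  have hord : orderOf (π α) = 2 ^ (n + 3) := by
    rw [← orderOf_a1 S n e]
    apply orderOf_eq_orderOf_iff.mpr
    intro m
    constructor
    · intro h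
      have := hαpow m (by rw [zpow_natCast]; exact h)
      rwa [zpow_natCast] at this
    · intro h
      have : α ^ m = 1 := by
        apply Subtype.ext
        rw [Subgroup.coe_pow]; exact h
      rw [← map_pow, this, map_one]
  have hdvd : orderOf Iu ∣ orderOf (π α) := by
    rw [orderOf_Iu, hord]
    exact ⟨2 ^ (n + 1), by ring⟩
  set φ : CC ⧸ K' →* ℂˣ := monoidHomOfForallMemZpowers hgen hdvd with hφ
  refine ⟨K, φ.comp π, hKodd, hKC, hNK, ?_, ?_, ?_, ?_, hidx⟩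
  · intro k hk hkC
    have : π ⟨k, hkC⟩ = 1 := (hπ1 _).mpr (by rw [hK', Subgroup.mem_subgroupOf]; exact hk)
    rw [MonoidHom.comp_apply, this, map_one]
  · rw [MonoidHom.comp_apply]
    exact monoidHomOfForallMemZpowers_apply_gen hgen hdvd
  · intro c hc
    obtain ⟨k, hk, j, hj⟩ := hdec ⟨c, hc⟩
    refine ⟨k, by simpa [hK', Subgroup.mem_subgroupOf] using hk, j, ?_⟩
    have := congrArg Subtype.val hj
    simpa [hα] using this
  · intro c k j hk hc
    have hkC : k ∈ CC := hKC hk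
    have hcC : c ∈ CC := by
      rw [hc]
      exact Subgroup.mul_mem _ hkC (Subgroup.zpow_mem _ (a1_mem_C S n e) j)
    have h1 : π ⟨c, hcC⟩ = (π α) ^ j := by
      have : (⟨c, hcC⟩ : CC) = ⟨k, hkC⟩ * α ^ j := by
        apply Subtype.ext
        simp [hα, hc]
      rw [this, map_mul, (hπ1 _).mpr (by rw [hK', Subgroup.mem_subgroupOf]; exact hk), one_mul,
        map_zpow]
    have h2 : (π ⟨c, hcC⟩) ^ (orderOf c) = 1 := by
      rw [← map_pow]
      have : (⟨c, hcC⟩ : CC) ^ orderOf c = 1 := by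
        apply Subtype.ext
        rw [Subgroup.coe_pow]; exact pow_orderOf_eq_one c
      rw [this, map_one]
    rw [h1, ← zpow_natCast, ← zpow_mul] at h2
    have := orderOf_dvd_iff_zpow_eq_one.mpr h2
    rwa [hord] at this


theorem two_adic (x y : ℤ) (N : ℕ) (h : (2 : ℤ) ^ (N + 1) ∣ x * y) (hx : ¬ (4 : ℤ) ∣ x) :
    (2 : ℤ) ^ N ∣ y := by
  rcases Int.even_or_odd x with hev | hodd
  · obtain ⟨x', rfl⟩ := hev
    have hx' : Odd x' := by
      rcases Int.even_or_odd x' with h' | h'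
      · exfalso
        obtain ⟨t, rfl⟩ := h'
        exact hx ⟨t, by ring⟩
      · exact h'
    have h1 : (2 : ℤ) ^ N ∣ x' * y := by
      have h2 : (2 : ℤ) * 2 ^ N ∣ 2 * (x' * y) := by
        have : (2 : ℤ) ^ (N + 1) = 2 * 2 ^ N := by ring
        rw [this] at h
        have h3 : (x' + x') * y = 2 * (x' * y) := by ring
        rwa [h3] at h
      exact (mul_dvd_mul_iff_left (by norm_num : (2 : ℤ) ≠ 0)).mp h2
    have hcop : IsCoprime ((2 : ℤ) ^ N) x' := IsCoprime.pow_left (Int.isCoprime_two_left.mpr hx')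
    exact hcop.dvd_of_dvd_mul_left h1
  · have hcop : IsCoprime ((2 : ℤ) ^ (N + 1)) x :=
      IsCoprime.pow_left (Int.isCoprime_two_left.mpr hodd)
    have h1 : (2 : ℤ) ^ (N + 1) ∣ y := hcop.dvd_of_dvd_mul_left h
    exact (pow_dvd_pow 2 (Nat.le_succ N)).trans h1

theorem Iu_zpow_eq_one_iff (j : ℤ) : Iu ^ j = 1 ↔ (4 : ℤ) ∣ j := by
  rw [← orderOf_dvd_iff_zpow_eq_one, orderOf_Iu]
  norm_num

include e in
/-- the full set-up for the exceptional character argument -/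
theorem exists_setup : ∃ (lam : CC →* ℂˣ),
    (∀ c ∈ CC, b0 S n e * c * (b0 S n e)⁻¹ ∈ CC) ∧ b0 S n e ∉ CC ∧
    (∀ (c : G) (hc : c ∈ CC) (h' : b0 S n e * c * (b0 S n e)⁻¹ ∈ CC),
      lam ⟨b0 S n e * c * (b0 S n e)⁻¹, h'⟩ = (lam ⟨c, hc⟩)⁻¹) ∧
    (∀ (c : G) (hc : c ∈ CC), lam ⟨c, hc⟩ ≠ 1 → ∀ g : G, g * c * g⁻¹ ∈ CC →
      g ∈ CC ∨ (b0 S n e)⁻¹ * g ∈ CC) ∧
    (∃ c : CC, lam c ^ 2 ≠ 1) ∧
    (∀ (c : G) (hc : c ∈ CC), ¬ 4 ∣ orderOf c → lam ⟨c, hc⟩ = 1) ∧
    (∀ h : a1 S n e ^ 2 ∈ CC, lam ⟨a1 S n e ^ 2, h⟩ = Iu ^ 2) := by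
  obtain ⟨K, lam, hKodd, hKC, hNK, hlamK, hlama, hdec, hord, hidx⟩ := exists_lam S n e
  have hbN := b0_mem_N S n e
  have hconjC : ∀ c ∈ CC, b0 S n e * c * (b0 S n e)⁻¹ ∈ CC := fun c hc =>
    conj_mem_centralizer_of_mem_normalizer _ hbN hc
  -- the value formula
  have hval : ∀ (c k : G) (j : ℤ) (hcC : c ∈ CC), k ∈ K → c = k * a1 S n e ^ j →
      lam ⟨c, hcC⟩ = Iu ^ j := by
    intro c k j hcC hk hc
    have hkC : k ∈ CC := hKC hk
    have : (⟨c, hcC⟩ : CC) = ⟨k, hkC⟩ * (⟨a1 S n e, a1_mem_C S n e⟩ : CC) ^ j := by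
      apply Subtype.ext
      simp [hc]
    rw [this, map_mul, map_zpow, hlamK k hk hkC, hlama, one_mul]
  refine ⟨lam, hconjC, b0_not_mem_C S n e, ?_, ?_, ?_, ?_, ?_⟩
  · intro c hc h'
    obtain ⟨k, hk, j, hj⟩ := hdec c hc
    have hk1 : b0 S n e * k * (b0 S n e)⁻¹ ∈ K :=
      (Subgroup.mem_normalizer_iff.mp (hNK hbN) k).mp hk
    have hconj : b0 S n e * c * (b0 S n e)⁻¹ =
        (b0 S n e * k * (b0 S n e)⁻¹) * a1 S n e ^ (-j) := by
      rw [hj, zpow_neg, ← inv_zpow, ← b0_conj_a1 S n e, Cfsg.Agent.S0843.conj_zpow']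
      group
    rw [hval _ _ (-j) h' hk1 hconj, hval c k j hc hk hj, zpow_neg]
  · intro c hc hl g hg
    obtain ⟨k, hk, j, hj⟩ := hdec c hc
    rw [hval c k j hc hk hj] at hl
    have h4 : ¬ (4 : ℤ) ∣ j := fun h => hl ((Iu_zpow_eq_one_iff j).mpr h)
    have h1 := hord c k j hk hj
    have h2 : (2 : ℤ) ^ (n + 2) ∣ (orderOf c : ℤ) := by
      apply two_adic j _ (n + 2) _ h4
      have : ((2 ^ (n + 3) : ℕ) : ℤ) = (2 : ℤ) ^ (n + 2 + 1) := by push_cast; ring
      rwa [this] at h1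
    have h3 : 2 ^ (n + 2) ∣ orderOf c := by exact_mod_cast h2
    have h5 : Nat.card DD ∣ orderOf c := (card_DD_dvd S n e).trans h3
    have hgN : g ∈ NN := (Cfsg.Agent.S0843.result S n e DD rfl).2.1 g c hc h5 hg
    by_cases hgC : g ∈ CC
    · exact Or.inl hgC
    · right
      have hmul := Subgroup.mul_mem_iff_of_index_two hidx
        (a := (⟨(b0 S n e)⁻¹, Subgroup.inv_mem _ hbN⟩ : NN)) (b := ⟨g, hgN⟩)
      simp only [Subgroup.mem_subgroupOf, Subgroup.coe_mul] at hmul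
      rw [hmul]
      constructor
      · intro h
        exact absurd (by simpa using Subgroup.inv_mem _ h) (b0_not_mem_C S n e)
      · intro h
        exact absurd h hgC
  · refine ⟨⟨a1 S n e, a1_mem_C S n e⟩, ?_⟩
    rw [hlama]
    intro h
    have h1 := congrArg (fun u : ℂˣ => (u : ℂ)) h
    simp only [Iu_sq] at h1
    norm_num at h1
  · intro c hc h4
    obtain ⟨k, hk, j, hj⟩ := hdec c hc
    rw [hval c k j hc hk hj, Iu_zpow_eq_one_iff]
    have h1 := hord c k j hk hj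
    have h4' : ¬ (4 : ℤ) ∣ (orderOf c : ℤ) := by
      intro h
      apply h4
      exact_mod_cast h
    have h2 : (2 : ℤ) ^ (n + 2) ∣ j := by
      apply two_adic _ j (n + 2) _ h4'
      have : ((2 ^ (n + 3) : ℕ) : ℤ) = (2 : ℤ) ^ (n + 2 + 1) := by push_cast; ring
      rw [this, mul_comm] at h1
      exact h1
    have : (4 : ℤ) ∣ (2 : ℤ) ^ (n + 2) := ⟨2 ^ n, by ring⟩
    exact this.trans h2
  · intro h
    have := hval (a1 S n e ^ 2) 1 2 h (Subgroup.one_mem K) (by simp)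
    simpa using this

end SLevel

end Cfsg.Agent.Helper4.BS
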