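import Mathlib
import Cfsg.Agent.Lib.Helper4.BS.Quat

/-!
# Brauer–Suzuki for generalized quaternion Sylow 2-subgroups of order at least 16:
the pair of exceptional characters
-/

set_option autoImplicit false
set_option linter.unusedSectionVars false
set_option linter.style.haveILetI false

namespace Cfsg.Agent.Helper4.BS

open Cfsg Cfsg.Agent.Helper14 QuaternionGroup
open scoped Classical

universe u

local notation "C[" G "," S "]" => Subgroup.centralizer ((⁅(S : Subgroup G), (S : Subgroup G)⁆ : Subgroup G) : Set G)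

theorem exists_pair_quat {G : Type u} [Group G] [Fintype G] (S : Sylow 2 G) (n : ℕ)
    (e : (S : Subgroup G) ≃* QuaternionGroup (2 ^ (n + 2))) :
    ∃ χ₁ χ₂ : G → ℂ, IsIrrCharacter G χ₁ ∧ IsIrrCharacter G χ₂ ∧ χ₁ ≠ (fun _ => 1) ∧
      χ₂ ≠ (fun _ => 1) ∧ χ₁ ≠ χ₂ ∧ χ₁ 1 = χ₂ 1 + 1 ∧
      (∀ g : G, ¬ 4 ∣ orderOf g → χ₁ g - χ₂ g = 1) ∧
      χ₁ (a1 S n e ^ 2) - χ₂ (a1 S n e ^ 2) = -3 := by
  obtain ⟨lam, hbC, hb, hinv', hTI, hsq, hP3, ha2⟩ := exists_setup S n e
  have hinv : ∀ (c : G) (hc : c ∈ C[G,S]), lam ⟨b0 S n e * c * (b0 S n e)⁻¹, hbC c hc⟩ =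
      (lam ⟨c, hc⟩)⁻¹ := fun c hc => hinv' c hc (hbC c hc)
  have hgen := isGeneralizedCharacter_Theta C[G,S] lam
  have h0 := Theta_one C[G,S] lam
  have h1 := classInner_Theta_one C[G,S] lam hsq
  have h3 := classInner_Theta_Theta C[G,S] lam (b0 S n e) hbC hb hinv hTI hsq
  obtain ⟨χ₁, χ₂, hχ₁, hχ₂, hne1, hne2, hne, hdeg, hΘ⟩ := exists_pair hgen h3 h1 h0
  refine ⟨χ₁, χ₂, hχ₁, hχ₂, hne1, hne2, hne, hdeg, ?_, ?_⟩
  · intro g hg
    have hz : Theta C[G,S] lam g = 0 := by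
      apply Theta_eq_zero
      intro x hx
      apply hP3
      have : orderOf (x⁻¹ * g * x) = orderOf g := by
        have := orderOf_conj' x⁻¹ g
        simpa using this
      rw [this]
      exact hg
    have := congrFun hΘ g
    rw [hz] at this
    simp only [Pi.add_apply, Pi.sub_apply] at this
    linear_combination this
  · have ha2C : a1 S n e ^ 2 ∈ C[G,S] := Subgroup.pow_mem _ (a1_mem_C S n e) 2
    have hl : lam ⟨a1 S n e ^ 2, ha2C⟩ ≠ 1 := by
      rw [ha2 ha2C]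
      intro h
      have h1 := congrArg (fun u : ℂˣ => (u : ℂ)) h
      simp only [Iu_sq] at h1
      norm_num at h1
    have hv := Theta_apply_of_ne C[G,S] lam (b0 S n e) hbC hb hinv hTI _ ha2C hl
    rw [ha2 ha2C] at hv
    have hinvI : (((Iu ^ 2)⁻¹ : ℂˣ) : ℂ) = -1 := by
      rw [Units.val_inv_eq_inv_val, Iu_sq]
      norm_num
    rw [Iu_sq, hinvI] at hv
    have := congrFun hΘ (a1 S n e ^ 2)
    rw [hv] at this
    simp only [Pi.add_apply, Pi.sub_apply] at this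
    linear_combination this

end Cfsg.Agent.Helper4.BS
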