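import Mathlib
import Cfsg.Agent.Lib.Helper4.BS.Main
import Cfsg.Agent.Lib.Helper4.BS.Invol
import Cfsg.Agent.Lib.Helper79.LinearDeg
import Cfsg.Agent.S0840
import Cfsg.Agent.Lib.Helper80.CharBasic

/-!
# Brauer–Suzuki for generalized quaternion Sylow 2-subgroups of order at least 16:
the involutions lie in the kernels of the exceptional characters
-/

set_option autoImplicit false
set_option linter.unusedSectionVars false
set_option linter.style.haveILetI false

namespace Cfsg.Agent.Helper4.BS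

open Cfsg Cfsg.Agent.Helper14 Cfsg.Agent.Helper81 Cfsg.Agent.Helper79
open scoped Classical ComplexConjugate

universe u

variable {G : Type u} [Group G] [Fintype G] (S : Sylow 2 G) (n : ℕ)
  (e : (S : Subgroup G) ≃* QuaternionGroup (2 ^ (n + 2)))

include e in
/-- the class multiplication constant vanishes at elements of even order -/
theorem classConst_eq_zero (z g : G) (hz : orderOf z = 2) (hg : Even (orderOf g)) :
    ∑ᶠ χ : IrrCharacter G, (χ : G → ℂ) z * (χ : G → ℂ) z * conj ((χ : G → ℂ) g) /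
      (χ : G → ℂ) 1 = 0 := by
  have : NeZero (2 ^ (n + 2)) := ⟨by positivity⟩
  have h := Cfsg.Agent.S0840.result z z g
  have hempty : IsEmpty {p : G × G // IsConj z p.1 ∧ IsConj z p.2 ∧ p.1 * p.2 = g} := by
    constructor
    rintro ⟨p, h1, h2, h3⟩
    obtain ⟨c1, hc1⟩ := isConj_iff.mp h1
    obtain ⟨c2, hc2⟩ := isConj_iff.mp h2
    have ho1 : orderOf p.1 = 2 := by rw [← hc1, orderOf_conj', hz]
    have ho2 : orderOf p.2 = 2 := by rw [← hc2, orderOf_conj', hz]
    apply odd_orderOf_mul_invol S (2 ^ (n + 2)) e p.1 p.2 ho1 ho2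
    rw [h3]; exact hg
  rw [Nat.card_of_isEmpty] at h
  have hA : (Nat.card {x : G // IsConj z x} : ℂ) ≠ 0 := by
    have : Nonempty {x : G // IsConj z x} := ⟨⟨z, IsConj.refl z⟩⟩
    have : 0 < Nat.card {x : G // IsConj z x} := Nat.card_pos
    exact_mod_cast this.ne'
  have hN : (Nat.card G : ℂ) ≠ 0 := by
    have : 0 < Nat.card G := Nat.card_pos
    exact_mod_cast this.ne'
  have h' := h.symm
  simp only [Nat.cast_zero] at h'
  rcases mul_eq_zero.mp h' with h1 | h1
  · exfalso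
    rcases div_eq_zero_iff.mp h1 with h2 | h2
    · rcases mul_eq_zero.mp h2 with h3 | h3 <;> exact hA h3
    · exact hN h2
  · exact h1


include e in
/-- every involution lies in the kernels of the two exceptional characters -/
theorem invol_mem_kernels : ∃ X₁ X₂ : IrrCharacter G,
    (X₁ : G → ℂ) 1 = (X₂ : G → ℂ) 1 + 1 ∧
    (∀ g : G, ¬ 4 ∣ orderOf g → (X₁ : G → ℂ) g - (X₂ : G → ℂ) g = 1) ∧
    (X₁ : G → ℂ) (a1 S n e ^ 2) - (X₂ : G → ℂ) (a1 S n e ^ 2) = -3 ∧
    ∀ z : G, orderOf z = 2 → z ∈ irrKer X₁ ∧ z ∈ irrKer X₂ := by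
  obtain ⟨χ₁, χ₂, hχ₁, hχ₂, hne1, hne2, hne, hdeg, hval, ha2⟩ := exists_pair_quat S n e
  refine ⟨⟨χ₁, hχ₁⟩, ⟨χ₂, hχ₂⟩, hdeg, hval, ha2, ?_⟩
  intro z hz
  haveI : Fintype (IrrCharacter G) := @Fintype.ofFinite _ Helper81.irr_finite
  set X₁ : IrrCharacter G := ⟨χ₁, hχ₁⟩ with hX₁
  set X₂ : IrrCharacter G := ⟨χ₂, hχ₂⟩ with hX₂
  set t : IrrCharacter G := trivChar G with ht
  set N : ℂ := (Nat.card G : ℂ) with hNdef
  have hN : N ≠ 0 := by
    have : 0 < Nat.card G := Nat.card_pos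
    rw [hNdef]; exact_mod_cast this.ne'
  set c : IrrCharacter G → ℂ := fun χ => (χ : G → ℂ) z * (χ : G → ℂ) z / (χ : G → ℂ) 1 with hc
  set Θ' : G → ℂ := fun g => (t : G → ℂ) g + χ₂ g - χ₁ g with hΘ'
  set F : G → ℂ := fun g => ∑ χ : IrrCharacter G,
    (χ : G → ℂ) z * (χ : G → ℂ) z * conj ((χ : G → ℂ) g) / (χ : G → ℂ) 1 with hF
  have hF0 : ∀ g : G, Even (orderOf g) → F g = 0 := by
    intro g hg
    have := classConst_eq_zero S n e z g hz hg
    rw [finsum_eq_sum_of_fintype] at this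
    exact this
  have hsum0 : ∑ g : G, Θ' g * F g = 0 := by
    apply Finset.sum_eq_zero
    intro g _
    by_cases h4 : 4 ∣ orderOf g
    · have hev : Even (orderOf g) := by
        obtain ⟨k, hk⟩ := h4
        exact ⟨2 * k, by omega⟩
      rw [hF0 g hev, mul_zero]
    · have := hval g h4
      have h0 : Θ' g = 0 := by
        simp only [hΘ', ht, trivChar_apply]
        linear_combination -this
      rw [h0, zero_mul]
  have horth : ∀ χ : IrrCharacter G, ∑ g : G, Θ' g * conj ((χ : G → ℂ) g) =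
      (if t = χ then N else 0) + (if X₂ = χ then N else 0) - (if X₁ = χ then N else 0) := by
    intro χ
    have h1 := Cfsg.Agent.Helper80.irr_first_orthogonality t χ
    have h2 := Cfsg.Agent.Helper80.irr_first_orthogonality X₂ χ
    have h3 := Cfsg.Agent.Helper80.irr_first_orthogonality X₁ χ
    rw [← h1, ← h2, ← h3, ← Finset.sum_add_distrib, ← Finset.sum_sub_distrib]
    apply Finset.sum_congr rfl
    intro g _
    simp only [hΘ', hX₁, hX₂]
    ring
  have hsum : ∑ g : G, Θ' g * F g = N * (c t + c X₂ - c X₁) := by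
    have h1 : ∀ g : G, Θ' g * F g =
        ∑ χ : IrrCharacter G, c χ * (Θ' g * conj ((χ : G → ℂ) g)) := by
      intro g
      simp only [hF, hc, Finset.mul_sum]
      apply Finset.sum_congr rfl
      intro χ _
      ring
    simp_rw [h1]
    rw [Finset.sum_comm]
    simp_rw [← Finset.mul_sum, horth]
    simp only [mul_sub, mul_add, mul_ite, mul_zero, Finset.sum_sub_distrib, Finset.sum_add_distrib,
      Finset.sum_ite_eq, Finset.mem_univ, if_true]
    ring
  rw [hsum0] at hsum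
  have hkey : c t + c X₂ - c X₁ = 0 := by
    rcases mul_eq_zero.mp hsum.symm with h | h
    · exact absurd h hN
    · exact h
  obtain ⟨nd, hnd, hd⟩ := Cfsg.Agent.Helper82.irr_degree_pos hχ₂
  have hz4 : ¬ 4 ∣ orderOf z := by rw [hz]; norm_num
  have hvz := hval z hz4
  have hct : c t = 1 := by simp [hc, ht, trivChar_apply]
  have hcX₂ : c X₂ = χ₂ z * χ₂ z / (nd : ℂ) := by simp only [hc, hX₂, hd]
  have hcX₁ : c X₁ = (χ₂ z + 1) * (χ₂ z + 1) / ((nd : ℂ) + 1) := by
    simp only [hc, hX₁]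
    rw [hdeg, hd]
    have : χ₁ z = χ₂ z + 1 := by linear_combination hvz
    rw [this]
  rw [hct, hcX₂, hcX₁] at hkey
  have hnd0 : (nd : ℂ) ≠ 0 := by exact_mod_cast hnd.ne'
  have hnd1 : (nd : ℂ) + 1 ≠ 0 := by exact_mod_cast (Nat.succ_ne_zero nd)
  have hsq : ((nd : ℂ) - χ₂ z) ^ 2 = 0 := by
    field_simp at hkey
    linear_combination hkey
  have hcd : χ₂ z = (nd : ℂ) := by
    have := pow_eq_zero_iff (n := 2) (by norm_num) |>.mp hsq
    linear_combination -this
  constructor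
  · rw [mem_irrKer]
    show χ₁ z = χ₁ 1
    rw [hdeg, hd, ← hcd]
    linear_combination hvz
  · rw [mem_irrKer]
    show χ₂ z = χ₂ 1
    rw [hd, hcd]


include e in
/-- elements of `S` outside the cyclic maximal subgroup invert `a1` -/
theorem conj_a1_of_not_mem_rotS (y : G) (hyS : y ∈ (S : Subgroup G))
    (hy : y ∉ rotS (S : Subgroup G) e) : y * a1 S n e * y⁻¹ = (a1 S n e)⁻¹ := by
  have h2k : (2 * (2 ^ (n + 2) : ℕ) : ZMod (2 * 2 ^ (n + 2))) = 0 := by norm_cast; simp
  have hes : e ⟨y, hyS⟩ ∉ rot (2 ^ (n + 2)) := by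
    intro h
    exact hy ((mem_rotS_iff _ e y).mpr ⟨⟨y, hyS⟩, h, rfl⟩)
  rcases hq : e ⟨y, hyS⟩ with i | i
  · exact absurd (hq ▸ a_mem_rot i) hes
  · have h : (QuaternionGroup.xa i : QuaternionGroup (2 ^ (n + 2))) * QuaternionGroup.a 1 *
        (QuaternionGroup.xa i)⁻¹ = (QuaternionGroup.a 1)⁻¹ := by
      simp only [a_inv', xa_inv', QuaternionGroup.xa_mul_a, QuaternionGroup.xa_mul_xa]
      congr 1
      push_cast at h2k ⊢
      linear_combination h2k
    have hy' : (⟨y, hyS⟩ : (S : Subgroup G)) = e.symm (QuaternionGroup.xa i) := by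
      rw [← hq, MulEquiv.symm_apply_apply]
    have := congrArg (fun x => ((e.symm x : (S : Subgroup G)) : G)) h
    simp only [map_mul, map_inv, Subgroup.coe_mul, Subgroup.coe_inv, ← hy'] at this
    exact this

include e in
/-- the intersection of the two kernels meets `S` inside the cyclic maximal subgroup -/
theorem exists_normal_cyclic : ∃ M : Subgroup G, M.Normal ∧ (∀ z : G, orderOf z = 2 → z ∈ M) ∧
    (S : Subgroup G) ⊓ M ≤ rotS (S : Subgroup G) e := by
  obtain ⟨X₁, X₂, hdeg, hval, ha2, hker⟩ := invol_mem_kernels S n e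
  refine ⟨irrKer X₁ ⊓ irrKer X₂, inferInstance, fun z hz => Subgroup.mem_inf.mpr (hker z hz), ?_⟩
  intro y hy
  obtain ⟨hyS, hyM⟩ := Subgroup.mem_inf.mp hy
  by_contra hyA
  have hconj := conj_a1_of_not_mem_rotS S n e y hyS hyA
  set M := irrKer X₁ ⊓ irrKer X₂ with hM
  have hMn : M.Normal := inferInstance
  have h1 : a1 S n e * y⁻¹ * (a1 S n e)⁻¹ ∈ M := hMn.conj_mem _ (M.inv_mem hyM) _
  have h2 : y * (a1 S n e * y⁻¹ * (a1 S n e)⁻¹) ∈ M := M.mul_mem hyM h1
  have h3 : y * (a1 S n e * y⁻¹ * (a1 S n e)⁻¹) = ((a1 S n e) ^ 2)⁻¹ := by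
    have : y * (a1 S n e * y⁻¹ * (a1 S n e)⁻¹) = (y * a1 S n e * y⁻¹) * (a1 S n e)⁻¹ := by group
    rw [this, hconj]; group
  rw [h3] at h2
  have h4 : (a1 S n e) ^ 2 ∈ M := by simpa using M.inv_mem h2
  obtain ⟨h5, h6⟩ := Subgroup.mem_inf.mp h4
  rw [mem_irrKer] at h5 h6
  rw [h5, h6, hdeg] at ha2
  norm_num at ha2

end Cfsg.Agent.Helper4.BS
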