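import Mathlib
import Cfsg.Agent.Lib.Helper4.BS.Kernel

/-!
# Brauer–Suzuki for generalized quaternion Sylow 2-subgroups of order at least 16:
the centre when there is no normal subgroup of odd order
-/

set_option autoImplicit false
set_option linter.unusedSectionVars false
set_option linter.style.haveILetI false

namespace Cfsg.Agent.Helper4.BS

open Cfsg Cfsg.Agent.Helper14

/-- a normal subgroup of even order with cyclic Sylow 2-subgroups is a 2-group, when the ambient
group has no nontrivial normal subgroup of odd order -/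
theorem isPGroup_of_cyclic_sylow {G : Type*} [Group G] [Finite G] (M : Subgroup G) [hMn : M.Normal]
    (T : Sylow 2 M) (hT : IsCyclic T) (heven : 2 ∣ Nat.card M)
    (hO : ∀ N : Subgroup G, N.Normal → Odd (Nat.card N) → N = ⊥) : IsPGroup 2 M := by
  have hmin : (Nat.card M).minFac = 2 := (Nat.minFac_eq_two_iff _).mpr heven
  set K₀ := (MonoidHom.transferSylow T (hT.normalizer_le_centralizer hmin)).ker with hK₀
  have hK₀odd : ¬ 2 ∣ Nat.card K₀ := MonoidHom.not_dvd_card_ker_transferSylow T _
  have hchar : ∀ c : M, Odd (orderOf c) → c ∈ K₀ := by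
    intro c hc
    rw [hK₀, MonoidHom.mem_ker]
    set f := MonoidHom.transferSylow T (hT.normalizer_le_centralizer hmin) with hf
    have h1 : orderOf (f c) ∣ orderOf c := orderOf_map_dvd f c
    obtain ⟨j, hj⟩ := T.isPGroup' (f c)
    have h2 : orderOf (f c) ∣ 2 ^ j := orderOf_dvd_of_pow_eq_one hj
    have hcop : Nat.Coprime (2 ^ j) (orderOf c) :=
      Nat.Coprime.pow_left j (Nat.coprime_two_left.mpr hc)
    have := Nat.eq_one_of_dvd_coprimes hcop h2 h1
    exact orderOf_eq_one_iff.mp this
  have hchar' : ∀ c : M, c ∈ K₀ → Odd (orderOf c) := by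
    intro c hc
    have h1 : orderOf c ∣ Nat.card K₀ := Subgroup.orderOf_dvd_natCard K₀ hc
    rw [← Nat.not_even_iff_odd, even_iff_two_dvd]
    intro h2
    exact hK₀odd (h2.trans h1)
  set O : Subgroup G := K₀.map M.subtype with hOdef
  have hOn : O.Normal := by
    constructor
    rintro _ ⟨c, hc, rfl⟩ g
    have hmem : g * (c : G) * g⁻¹ ∈ M := hMn.conj_mem _ c.2 g
    refine ⟨⟨g * (c : G) * g⁻¹, hmem⟩, ?_, rfl⟩
    apply hchar
    rw [← Subgroup.orderOf_coe]
    simp only
    rw [orderOf_conj', Subgroup.orderOf_coe]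
    exact hchar' c hc
  have hOcard : Nat.card O = Nat.card K₀ :=
    (Nat.card_congr (K₀.equivMapOfInjective _ (Subgroup.subtype_injective _)).toEquiv).symm
  have hOodd : Odd (Nat.card O) := by
    rw [hOcard, ← Nat.not_even_iff_odd, even_iff_two_dvd]
    exact hK₀odd
  have hObot := hO O hOn hOodd
  have hodd1 : ∀ c : M, Odd (orderOf c) → c = 1 := by
    intro c hc
    have h1 : (c : G) ∈ O := ⟨c, hchar c hc, rfl⟩
    rw [hObot, Subgroup.mem_bot] at h1
    exact Subtype.ext h1
  intro x
  obtain ⟨k, m, hm, hkm⟩ := Nat.exists_eq_two_pow_mul_odd (orderOf_pos x).ne'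
  refine ⟨k, ?_⟩
  apply hodd1
  have h1 : (x ^ 2 ^ k) ^ m = 1 := by
    rw [← pow_mul, ← hkm, pow_orderOf_eq_one]
  have h2 : orderOf (x ^ 2 ^ k) ∣ m := orderOf_dvd_of_pow_eq_one h1
  exact Odd.of_dvd_nat hm h2


section

variable {G : Type*} [Group G] [Finite G] (S : Sylow 2 G) (n : ℕ)
  (e : (S : Subgroup G) ≃* QuaternionGroup (2 ^ (n + 2)))

include e in
/-- the involution of `S` is unique -/
theorem invol_unique_in_S (u w : G) (huS : u ∈ (S : Subgroup G)) (hwS : w ∈ (S : Subgroup G))
    (hu : orderOf u = 2) (hw : orderOf w = 2) : u = w := by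
  have : NeZero (2 ^ (n + 2)) := ⟨by positivity⟩
  have ho1 : orderOf (⟨u, huS⟩ : (S : Subgroup G)) = 2 := by
    rw [← Subgroup.orderOf_coe]; exact hu
  have ho2 : orderOf (⟨w, hwS⟩ : (S : Subgroup G)) = 2 := by
    rw [← Subgroup.orderOf_coe]; exact hw
  have e1 := (Cfsg.Agent.S0218.invol_iff _ (e ⟨u, huS⟩)).mp (by rw [MulEquiv.orderOf_eq]; exact ho1)
  have e2 := (Cfsg.Agent.S0218.invol_iff _ (e ⟨w, hwS⟩)).mp (by rw [MulEquiv.orderOf_eq]; exact ho2)
  have := e.injective (e1.trans e2.symm)
  exact congrArg Subtype.val this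

include e in
/-- central elements of `G` lying in `S` have order at most two -/
theorem sq_eq_one_of_central (x : G) (hxS : x ∈ (S : Subgroup G))
    (hx : ∀ g : G, g * x = x * g) : x * x = 1 := by
  have : NeZero (2 ^ (n + 2)) := ⟨by positivity⟩
  have h4 := four_ne_zero_zmod n
  have hc1 : e ⟨x, hxS⟩ * QuaternionGroup.a 1 = QuaternionGroup.a 1 * e ⟨x, hxS⟩ := by
    have h := hx (a1 S n e)
    have h' : (⟨x, hxS⟩ : (S : Subgroup G)) * e.symm (QuaternionGroup.a 1) =
        e.symm (QuaternionGroup.a 1) * ⟨x, hxS⟩ := by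
      apply Subtype.ext
      simp only [Subgroup.coe_mul]
      exact h.symm
    have := congrArg e h'
    simpa using this
  have hc2 : e ⟨x, hxS⟩ * QuaternionGroup.xa 0 = QuaternionGroup.xa 0 * e ⟨x, hxS⟩ := by
    have h := hx (b0 S n e)
    have h' : (⟨x, hxS⟩ : (S : Subgroup G)) * e.symm (QuaternionGroup.xa 0) =
        e.symm (QuaternionGroup.xa 0) * ⟨x, hxS⟩ := by
      apply Subtype.ext
      simp only [Subgroup.coe_mul]
      exact h.symm
    have := congrArg e h'
    simpa using this
  have hq : e ⟨x, hxS⟩ * e ⟨x, hxS⟩ = 1 := by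
    rcases hqq : e ⟨x, hxS⟩ with i | i
    · rw [hqq] at hc2
      simp only [QuaternionGroup.a_mul_xa, QuaternionGroup.xa_mul_a, QuaternionGroup.xa.injEq] at hc2
      simp only [QuaternionGroup.a_mul_a, QuaternionGroup.one_def]
      congr 1
      linear_combination -hc2
    · exfalso
      rw [hqq] at hc1
      simp only [QuaternionGroup.a_mul_xa, QuaternionGroup.xa_mul_a, QuaternionGroup.xa.injEq] at hc1
      apply h4
      have h2 : (2 : ZMod (2 * 2 ^ (n + 2))) = 0 := by linear_combination hc1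
      have : (4 : ZMod (2 * 2 ^ (n + 2))) = 2 * 2 := by norm_num
      rw [this, h2, mul_zero]
  have h1 : (⟨x, hxS⟩ : (S : Subgroup G)) * ⟨x, hxS⟩ = 1 := by
    apply e.injective
    rw [map_mul, map_one]
    exact hq
  exact congrArg Subtype.val h1


/-- a normal 2-subgroup lies in every Sylow 2-subgroup -/
theorem normal_le_sylow (N : Subgroup G) [hNn : N.Normal] (hN : IsPGroup 2 N) :
    N ≤ (S : Subgroup G) := by
  obtain ⟨x, -, hx⟩ := exists_conj_mem_sylow_of_le S ⊤ le_top N le_top hN
  intro m hm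
  have h1 : x⁻¹ * m * x⁻¹⁻¹ ∈ N := hNn.conj_mem m hm x⁻¹
  have h2 := hx _ h1
  have : x * (x⁻¹ * m * x⁻¹⁻¹) * x⁻¹ = m := by group
  rwa [this] at h2

include e in
/-- Sylow 2-subgroups of subgroups of `M` are cyclic -/
theorem isCyclic_sylow_of_le (M : Subgroup G) [hMn : M.Normal]
    (hSM : (S : Subgroup G) ⊓ M ≤ rotS (S : Subgroup G) e) (H : Subgroup G) (hHM : H ≤ M)
    (Q : Sylow 2 H) : IsCyclic Q := by
  have : NeZero (2 ^ (n + 2)) := ⟨by positivity⟩
  set Q' : Subgroup G := (Q : Subgroup H).map H.subtype with hQ'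
  have hQ'p : IsPGroup 2 Q' := Q.isPGroup'.map _
  obtain ⟨x, -, hx⟩ := exists_conj_mem_sylow_of_le S ⊤ le_top Q' le_top hQ'p
  set R : Subgroup G := Q'.map (MulAut.conj x).toMonoidHom with hR
  have hRA : R ≤ rotS (S : Subgroup G) e := by
    rintro _ ⟨q, hq, rfl⟩
    apply hSM
    refine Subgroup.mem_inf.mpr ⟨?_, ?_⟩
    · simpa [MulAut.conj_apply] using hx q hq
    · have hqM : q ∈ M := by
        obtain ⟨q', -, rfl⟩ := hq
        exact hHM q'.2
      simpa [MulAut.conj_apply] using hMn.conj_mem q hqM x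
  haveI hAc : IsCyclic (rotS (S : Subgroup G) e) := rotS_isCyclic _ e
  have hRc : IsCyclic R := Subgroup.isCyclic_of_le hRA
  have e1 : (Q : Subgroup H) ≃* Q' :=
    (Q : Subgroup H).equivMapOfInjective _ (Subgroup.subtype_injective _)
  have e2 : Q' ≃* R := Q'.equivMapOfInjective _ (MulAut.conj x).injective
  exact (e1.trans e2).isCyclic.mpr hRc

include e in
/-- Brauer–Suzuki for generalized quaternion Sylow 2-subgroups of order at least 16 -/
theorem card_center_eq_two
    (hO : ∀ N : Subgroup G, N.Normal → Odd (Nat.card N) → N = ⊥) :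
    Nat.card (Subgroup.center G) = 2 := by
  classical
  haveI : Fintype G := Fintype.ofFinite G
  have : NeZero (2 ^ (n + 2)) := ⟨by positivity⟩
  obtain ⟨M, hMn, hinv, hSM⟩ := exists_normal_cyclic S n e
  obtain ⟨z, hz⟩ := exists_invol S n e
  have hzM : z ∈ M := hinv z hz
  have T : Sylow 2 M := default
  have hT : IsCyclic T := isCyclic_sylow_of_le S n e M hSM M le_rfl T
  have heven : 2 ∣ Nat.card M := by
    have := Subgroup.orderOf_dvd_natCard M hzM
    rwa [hz] at this
  have hM2 : IsPGroup 2 M := isPGroup_of_cyclic_sylow M T hT heven hO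
  have hMS : M ≤ (S : Subgroup G) := normal_le_sylow S M hM2
  have hzS : z ∈ (S : Subgroup G) := hMS hzM
  -- `z` is central
  have hzc : ∀ g : G, g * z = z * g := by
    intro g
    have h1 : orderOf (g * z * g⁻¹) = 2 := by rw [orderOf_conj', hz]
    have h2 : g * z * g⁻¹ ∈ (S : Subgroup G) := hMS (hinv _ h1)
    have h3 := invol_unique_in_S S n e _ _ h2 hzS h1 hz
    calc g * z = (g * z * g⁻¹) * g := by group
      _ = z * g := by rw [h3]
  -- central elements of odd order are trivial
  have hodd1 : ∀ x ∈ Subgroup.center G, Odd (orderOf x) → x = 1 := by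
    intro x hx hodd
    have hNn : (Subgroup.zpowers x).Normal := by
      constructor
      intro y hy g
      have hyc : y ∈ Subgroup.center G := by
        obtain ⟨k, rfl⟩ := Subgroup.mem_zpowers_iff.mp hy
        exact Subgroup.zpow_mem _ hx k
      have : g * y * g⁻¹ = y := by
        rw [Subgroup.mem_center_iff] at hyc
        rw [hyc g]; group
      rw [this]; exact hy
    have hcard : Odd (Nat.card (Subgroup.zpowers x)) := by rw [Nat.card_zpowers]; exact hodd
    have := hO _ hNn hcard
    have hx' : x ∈ Subgroup.zpowers x := Subgroup.mem_zpowers x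
    rw [this, Subgroup.mem_bot] at hx'
    exact hx'
  have hZ2 : IsPGroup 2 (Subgroup.center G) := by
    intro x
    obtain ⟨k, m, hm, hkm⟩ := Nat.exists_eq_two_pow_mul_odd (orderOf_pos x).ne'
    refine ⟨k, ?_⟩
    have h1 : (x ^ 2 ^ k) ^ m = 1 := by
      rw [← pow_mul, ← hkm, pow_orderOf_eq_one]
    have h2 : orderOf (x ^ 2 ^ k) ∣ m := orderOf_dvd_of_pow_eq_one h1
    have h3 : Odd (orderOf ((x ^ 2 ^ k : Subgroup.center G) : G)) := by
      rw [Subgroup.orderOf_coe]
      exact Odd.of_dvd_nat hm h2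
    have := hodd1 _ (x ^ 2 ^ k).2 h3
    exact Subtype.ext this
  have hZS : Subgroup.center G ≤ (S : Subgroup G) := normal_le_sylow S _ hZ2
  have hZeq : Subgroup.center G = Subgroup.zpowers z := by
    apply le_antisymm
    · intro x hx
      have hxS := hZS hx
      have hxc : ∀ g : G, g * x = x * g := fun g => (Subgroup.mem_center_iff.mp hx g)
      have hsq := sq_eq_one_of_central S n e x hxS hxc
      by_cases hx1 : x = 1
      · rw [hx1]; exact Subgroup.one_mem _
      · have hox : orderOf x = 2 := orderOf_eq_prime (by rw [pow_two]; exact hsq) hx1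
        rw [invol_unique_in_S S n e x z hxS hzS hox hz]
        exact Subgroup.mem_zpowers z
    · rw [Subgroup.zpowers_le, Subgroup.mem_center_iff]
      exact hzc
  rw [hZeq, Nat.card_zpowers, hz]

end

end Cfsg.Agent.Helper4.BS
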